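import Cfsg.Agent.H141.Rg.Lin

/-!
# Roots of irreducible polynomials over a finite field (helper795, S5714, C6)

* `pow_card_pow`, `exists_frob`: the roots of an irreducible polynomial of degree `d` are the `α ^ (Q ^ i)`, `i < d`;
* `exists_twist`: an endomorphism of a finite field is `x ↦ x ^ r`, `r ∣ Q`;
* `exists_of_str`: the roots of `str σ f`;
* `exists_fin`: the elements `b` with `b ^ (Q ^ d) = b` and `b ^ (r Q ^ i) b = 1` are at most `2 Q ^ (d / 2)`;
* `ed_le_add`, `ed_le_left`: bounds for `ed`.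
-/

set_option autoImplicit false

namespace Cfsg.Agent.H795.Rg

open Polynomial Module Cfsg.Agent.H141.Rg IntermediateField

section roots

variable {K : Type*} [Field K] [Finite K]

omit [Finite K] in
theorem minpoly_eq {f : K[X]} (hf : Irr' f) {α : AlgebraicClosure K} (hα : aeval α f = 0) :
    minpoly K α = f :=
  (minpoly.eq_of_irreducible_of_monic hf.2.1 hα hf.1).symm

theorem pow_card_pow {f : K[X]} (hf : Irr' f) {α : AlgebraicClosure K} (hα : aeval α f = 0) :
    α ^ (Nat.card K ^ f.natDegree) = α := by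
  classical
  have hm := minpoly_eq hf hα
  have hint : IsIntegral K α := Algebra.IsIntegral.isIntegral α
  have hfd := adjoin.finiteDimensional hint
  have hfin : Finite K⟮α⟯ := Module.finite_of_finite K
  let _ : Fintype K⟮α⟯ := Fintype.ofFinite _
  have h1 : Nat.card K⟮α⟯ = Nat.card K ^ f.natDegree := by
    rw [Module.natCard_eq_pow_finrank (K := K), adjoin.finrank hint, hm]
  have h2 := FiniteField.pow_card (AdjoinSimple.gen K α)
  rw [← Nat.card_eq_fintype_card, h1] at h2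
  have h3 := congrArg (algebraMap K⟮α⟯ (AlgebraicClosure K)) h2
  rwa [map_pow, AdjoinSimple.algebraMap_gen] at h3

theorem exists_frob {f : K[X]} (hf : Irr' f) {α β : AlgebraicClosure K} (hα : aeval α f = 0)
    (hβ : aeval β f = 0) : ∃ i < f.natDegree, β = α ^ (Nat.card K ^ i) := by
  classical
  have hm := minpoly_eq hf hα
  have hm' := minpoly_eq hf hβ
  have hint : IsIntegral K α := Algebra.IsIntegral.isIntegral α
  have hfd := adjoin.finiteDimensional hint
  have hfin : Finite K⟮α⟯ := Module.finite_of_finite K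
  let _ : Fintype K⟮α⟯ := Fintype.ofFinite _
  let _ : Fintype K := Fintype.ofFinite _
  have hconj : IsConjRoot K β α := hm'.trans hm.symm
  obtain ⟨τ, hτ⟩ := hconj.exists_algEquiv
  have hn : Normal K K⟮α⟯ := inferInstance
  obtain ⟨n, hn'⟩ := (FiniteField.bijective_frobeniusAlgEquivOfAlgebraic_pow K K⟮α⟯).2
    (AlgEquiv.restrictNormal τ K⟮α⟯)
  refine ⟨n, ?_, ?_⟩
  · have h1 : finrank K K⟮α⟯ = f.natDegree := by rw [adjoin.finrank hint, hm]
    exact n.2.trans_eq h1
  · have h2 := AlgEquiv.restrictNormal_commutes τ K⟮α⟯ (AdjoinSimple.gen K α)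
    rw [AdjoinSimple.algebraMap_gen, hτ, ← hn'] at h2
    rw [← h2]
    have h3 : (FiniteField.frobeniusAlgEquivOfAlgebraic K K⟮α⟯ ^ (n : ℕ)) (AdjoinSimple.gen K α) =
        (AdjoinSimple.gen K α) ^ (Fintype.card K ^ (n : ℕ)) := by
      rw [AlgEquiv.coe_pow, FiniteField.coe_frobeniusAlgEquivOfAlgebraic_iterate]
    change algebraMap K⟮α⟯ (AlgebraicClosure K)
      ((FiniteField.frobeniusAlgEquivOfAlgebraic K K⟮α⟯ ^ (n : ℕ)) (AdjoinSimple.gen K α)) = _
    rw [h3, map_pow, AdjoinSimple.algebraMap_gen, Nat.card_eq_fintype_card]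

/-- the degree of an element fixed by a power of the Frobenius automorphism -/
theorem natDegree_le_of_pow {f : K[X]} (hf : Irr' f) {α : AlgebraicClosure K} (hα : aeval α f = 0) {e : ℕ}
    (he : 1 ≤ e) (h : α ^ (Nat.card K ^ e) = α) : f.natDegree ≤ e := by
  classical
  have hm := minpoly_eq hf hα
  have hint : IsIntegral K α := Algebra.IsIntegral.isIntegral α
  have hfd := adjoin.finiteDimensional hint
  have hfin : Finite K⟮α⟯ := Module.finite_of_finite K
  let _ : Fintype K⟮α⟯ := Fintype.ofFinite _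
  let _ : Fintype K := Fintype.ofFinite _
  have h1 : FiniteField.frobeniusAlgHom K K⟮α⟯ ^ e = 1 := by
    apply (adjoin.powerBasis hint).algHom_ext
    rw [adjoin.powerBasis_gen, AlgHom.coe_pow, FiniteField.coe_frobeniusAlgHom, pow_iterate]
    change (AdjoinSimple.gen K α) ^ (Fintype.card K ^ e) = AdjoinSimple.gen K α
    apply (algebraMap K⟮α⟯ (AlgebraicClosure K)).injective
    rw [map_pow, AdjoinSimple.algebraMap_gen, ← Nat.card_eq_fintype_card]
    exact h
  have h2 := orderOf_dvd_of_pow_eq_one h1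
  rw [FiniteField.orderOf_frobeniusAlgHom, adjoin.finrank hint, hm] at h2
  exact Nat.le_of_dvd he h2

/-- `x ↦ x ^ (r Q ^ i)` is injective -/
theorem pow_inj {r : ℕ} {φ : AlgebraicClosure K →+* AlgebraicClosure K} (h1 : ∀ y, φ y = y ^ r) {i : ℕ}
    {x y : AlgebraicClosure K} (h : x ^ (r * Nat.card K ^ i) = y ^ (r * Nat.card K ^ i)) : x = y := by
  classical
  let _ : Fintype K := Fintype.ofFinite _
  rw [mul_comm, pow_mul, pow_mul, ← h1, ← h1] at h
  have h2 := φ.injective h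
  have h3 : Function.Injective (fun z : AlgebraicClosure K => z ^ (Fintype.card K)) := by
    rw [← FiniteField.coe_frobeniusAlgHom K (AlgebraicClosure K)]
    exact (FiniteField.frobeniusAlgHom K (AlgebraicClosure K)).toRingHom.injective
  have h4 := h3.iterate i
  rw [pow_iterate] at h4
  apply h4
  change x ^ (Fintype.card K ^ i) = y ^ (Fintype.card K ^ i)
  rw [← Nat.card_eq_fintype_card]
  exact h2

/-- an endomorphism of a finite field -/
theorem exists_twist (σ : K →+* K) : ∃ r : ℕ, 0 < r ∧ r ∣ Nat.card K ∧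
    ∃ φ : AlgebraicClosure K →+* AlgebraicClosure K, (∀ y, φ y = y ^ r) ∧
      ∀ c, algebraMap K (AlgebraicClosure K) (σ c) = φ (algebraMap K (AlgebraicClosure K) c) := by
  classical
  let _ : Fintype K := Fintype.ofFinite _
  obtain ⟨p, hp⟩ := CharP.exists K
  have hpp : Fact p.Prime := ⟨CharP.char_is_prime K p⟩
  let _ : Algebra (ZMod p) K := ZMod.algebra K p
  let σ' : K →ₐ[ZMod p] K := { σ with
    commutes' := fun x => RingHom.congr_fun
      (Subsingleton.elim (σ.comp (algebraMap (ZMod p) K)) (algebraMap (ZMod p) K)) x }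
  obtain ⟨n, hn⟩ := (FiniteField.bijective_frobeniusAlgHom_pow (ZMod p) K).2 σ'
  have hσ : ∀ x, σ x = x ^ p ^ (n : ℕ) := by
    intro x
    have h1 := DFunLike.congr_fun hn x
    change (FiniteField.frobeniusAlgHom (ZMod p) K ^ (n : ℕ)) x = σ x at h1
    rw [← h1, AlgHom.coe_pow, FiniteField.coe_frobeniusAlgHom, pow_iterate, ZMod.card]
  have hc : CharP (AlgebraicClosure K) p :=
    charP_of_injective_algebraMap (algebraMap K (AlgebraicClosure K)).injective p
  have he : ExpChar (AlgebraicClosure K) p := ExpChar.prime hpp.out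
  refine ⟨p ^ (n : ℕ), pow_pos hpp.out.pos _, ?_, iterateFrobenius (AlgebraicClosure K) p n,
    fun y => iterateFrobenius_def .., fun c => ?_⟩
  · have h2 : Nat.card K = p ^ finrank (ZMod p) K := by
      rw [Module.natCard_eq_pow_finrank (K := ZMod p), Nat.card_zmod]
    rw [h2]
    exact pow_dvd_pow _ n.2.le
  · rw [hσ, map_pow, iterateFrobenius_def]

omit [Finite K] in
/-- the roots of the conjugate reciprocal -/
theorem exists_of_str {σ : K →+* K} {r : ℕ} (hr : 0 < r)
    {φ : AlgebraicClosure K →+* AlgebraicClosure K} (h1 : ∀ y, φ y = y ^ r)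
    (h2 : ∀ c, algebraMap K (AlgebraicClosure K) (σ c) = φ (algebraMap K (AlgebraicClosure K) c))
    {f : K[X]} {β : AlgebraicClosure K} (hβ : β ≠ 0) (h : aeval β (str σ f) = 0) :
    ∃ δ, aeval δ f = 0 ∧ δ ^ r * β = 1 := by
  obtain ⟨δ, hδ⟩ := IsAlgClosed.exists_pow_nat_eq β⁻¹ hr
  refine ⟨δ, ?_, by rw [hδ, inv_mul_cancel₀ hβ]⟩
  let _ : Invertible β⁻¹ := invertibleOfNonzero (inv_ne_zero hβ)
  have h3 : eval₂ (algebraMap K (AlgebraicClosure K)) (⅟(β⁻¹)) (f.map σ).reverse = 0 := by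
    rw [invOf_eq_inv, inv_inv]
    exact h
  rw [eval₂_reverse_eq_zero_iff, ← hδ, ← h1, eval₂_map] at h3
  have h4 : (algebraMap K (AlgebraicClosure K)).comp σ =
      φ.comp (algebraMap K (AlgebraicClosure K)) := RingHom.ext h2
  rw [h4, ← hom_eval₂] at h3
  exact (map_eq_zero φ).1 h3

omit [Finite K] in
theorem exists_pow {L : Type*} [Field L] (w : ℕ) : ∃ F : Finset L, (∀ b : L, b ^ w * b = 1 → b ∈ F) ∧
    F.card ≤ w + 1 := by
  classical
  refine ⟨(nthRoots (w + 1) (1 : L)).toFinset, fun b hb => ?_,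
    (Multiset.toFinset_card_le _).trans (card_nthRoots _ _)⟩
  rw [Multiset.mem_toFinset, mem_nthRoots (Nat.succ_pos w), pow_succ]
  exact hb

theorem real_aux {Q d u v : ℕ} (h : Q ^ d = u * v) {w : ℕ} (hw : 0 < w) (hle : w * w ≤ u * v) :
    ((w + 1 : ℕ) : ℝ) ≤ 2 * Real.sqrt Q ^ d := by
  have hs : Real.sqrt Q ^ d * Real.sqrt Q ^ d = u * v := by
    rw [← mul_pow, Real.mul_self_sqrt (Nat.cast_nonneg _)]
    exact_mod_cast h
  have hs0 : 0 ≤ Real.sqrt Q ^ d := pow_nonneg (Real.sqrt_nonneg _) _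
  have h0 : (w : ℝ) * w ≤ u * v := by exact_mod_cast hle
  rw [← hs] at h0
  have h1 : (w : ℝ) ≤ Real.sqrt Q ^ d := by
    by_contra hlt
    push Not at hlt
    nlinarith
  have h2 : (1 : ℝ) ≤ w := by exact_mod_cast hw
  push_cast
  linarith

theorem pow_aux {L : Type*} [Field L] {b : L} {U u v : ℕ} (hv : U = u * v) (h1 : b ^ U = b)
    (h2 : b ^ u * b = 1) : b ^ v * b = 1 := by
  rw [hv, pow_mul] at h1
  have h3 : (b ^ u) ^ v * b ^ v = 1 := by rw [← mul_pow, h2, one_pow]
  rw [h1] at h3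
  rw [mul_comm]; exact h3

/-- few elements `b` with `b ^ (r Q ^ i) = b⁻¹` -/
theorem exists_fin (L : Type*) [Field L] {Q r : ℕ} (hQ : 0 < Q) (hr : 0 < r) (hrQ : r ∣ Q) {i d : ℕ} (hid : i < d) :
    ∃ F : Finset L, (∀ b : L, b ^ (Q ^ d) = b →
      b ^ (r * Q ^ i) * b = 1 → b ∈ F) ∧ (F.card : ℝ) ≤ 2 * Real.sqrt Q ^ d := by
  obtain ⟨v, hv⟩ : r * Q ^ i ∣ Q ^ d := by
    obtain ⟨c, hc⟩ := hrQ
    refine ((mul_dvd_mul_right ⟨c, hc⟩ (Q ^ i))).trans ?_
    rw [← pow_succ']
    exact pow_dvd_pow _ hid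
  obtain ⟨u, hu'⟩ : ∃ u, u = r * Q ^ i := ⟨_, rfl⟩
  rw [← hu'] at hv ⊢
  have hu : 0 < u := by rw [hu']; exact Nat.mul_pos hr (pow_pos hQ _)
  have hv0 : 0 < v := by
    rcases Nat.eq_zero_or_pos v with rfl | h
    · rw [mul_zero] at hv
      exact absurd hv (pow_pos hQ _).ne'
    · exact h
  rcases le_or_gt u v with huv | huv
  · obtain ⟨F, hF1, hF2⟩ := exists_pow (L := L) u
    refine ⟨F, fun b _ h2 => hF1 b h2, le_trans ?_ (real_aux hv hu (Nat.mul_le_mul_left _ huv))⟩
    exact_mod_cast hF2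
  · obtain ⟨F, hF1, hF2⟩ := exists_pow (L := L) v
    refine ⟨F, fun b h1 h2 => hF1 b (pow_aux hv h1 h2),
      le_trans ?_ (real_aux hv hv0 (Nat.mul_le_mul_right _ huv.le))⟩
    exact_mod_cast hF2

omit [Finite K] in
theorem ne_zero_of_root {f : K[X]} (hf : Irr' f) {α : AlgebraicClosure K} (hα : aeval α f = 0) :
    α ≠ 0 := by
  rintro rfl
  apply hf.2.2
  rw [← minpoly_eq hf hα, minpoly.zero]

/-! ### The degree `ed` -/

omit [Finite K] in
open Classical in
theorem exists_gcd (σ : K →+* K) (g : K[X]) : ∃ c, c ∣ g ∧ c ∣ str σ g ∧ ed σ g = c.natDegree :=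
  ⟨_, EuclideanDomain.gcd_dvd_left _ _, EuclideanDomain.gcd_dvd_right _ _, rfl⟩

omit [Finite K] in
theorem ed_le_add {σ : K →+* K} {f h : K[X]} (hf : Irr' f) (hh : Irr' h) :
    ed σ (f * h) ≤ f.natDegree + h.natDegree := by
  obtain ⟨c, h1, -, h3⟩ := exists_gcd σ (f * h)
  rw [h3, ← natDegree_mul hf.1.ne_zero hh.1.ne_zero]
  exact natDegree_le_of_dvd h1 (mul_ne_zero hf.1.ne_zero hh.1.ne_zero)

omit [Finite K] in
theorem str_mul (σ : K →+* K) (f h : K[X]) : str σ (f * h) = str σ f * str σ h := by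
  unfold str
  rw [Polynomial.map_mul, reverse_mul_of_domain]

omit [Finite K] in
theorem ed_le_left {σ : K →+* K} {f h : K[X]} (hf : Irr' f) (hh : Irr' h) (h1 : ¬ h ∣ str σ f)
    (h2 : ¬ h ∣ str σ h) : ed σ (f * h) ≤ f.natDegree := by
  obtain ⟨c, h3, h4, h5⟩ := exists_gcd σ (f * h)
  rw [h5]
  have h6 : ¬ h ∣ c := by
    intro h7
    have h8 := h7.trans h4
    rw [str_mul] at h8
    exact (hh.2.1.prime.dvd_or_dvd h8).elim h1 h2
  have h7 := (hh.2.1.coprime_iff_not_dvd).2 h6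
  exact natDegree_le_of_dvd (h7.symm.dvd_of_dvd_mul_right h3) hf.1.ne_zero

end roots

end Cfsg.Agent.H795.Rg
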