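import Cfsg.Agent.H795.Rg.Roots

/-!
# The sum over the pairs of irreducible polynomials with roots with the same small power (helper795, S5714, C6)
-/

set_option autoImplicit false

namespace Cfsg.Agent.H795.Rg

open Polynomial Module Cfsg.Agent.H141.Rg

section pairs

variable (K : Type*) [Field K]

theorem sum_range_le (k : ℕ) : ∑ m ∈ Finset.range k, m ≤ k ^ 2 := by
  refine (Finset.sum_le_card_nsmul _ _ k fun m hm => (Finset.mem_range.1 hm).le).trans ?_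
  rw [Finset.card_range, smul_eq_mul, pow_two]

theorem card_roots_le {L : Type*} [Field L] [DecidableEq L] (m : ℕ) (a : L) :
    (nthRoots m a).toFinset.card ≤ m :=
  (Multiset.toFinset_card_le _).trans (card_nthRoots _ _)

theorem exists_pairs {L : Type*} [Field L] {P : Type*} (g : L → L → P) (F : Finset L) (k : ℕ) :
    ∃ C : Finset P, (∀ α β, β ∈ F → (∃ m, 1 ≤ m ∧ m < k ∧ α ^ m = β ^ m) → g α β ∈ C) ∧
      C.card ≤ F.card * k ^ 2 := by
  classical
  refine ⟨F.biUnion fun β => (Finset.range k).biUnion fun m =>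
    (nthRoots m (β ^ m)).toFinset.image fun α => g α β, ?_, ?_⟩
  · rintro α β hβ ⟨m, h1, h2, h3⟩
    rw [Finset.mem_biUnion]
    refine ⟨β, hβ, ?_⟩
    rw [Finset.mem_biUnion]
    refine ⟨m, Finset.mem_range.2 h2, ?_⟩
    rw [Finset.mem_image]
    refine ⟨α, ?_, rfl⟩
    rw [Multiset.mem_toFinset, mem_nthRoots h1]
    exact h3
  · refine Finset.card_biUnion_le.trans ((Finset.sum_le_card_nsmul _ _ (k ^ 2) fun β _ => ?_).trans_eq
      (smul_eq_mul ..))
    refine Finset.card_biUnion_le.trans (le_trans (Finset.sum_le_sum fun m _ => ?_) (sum_range_le k))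
    exact Finset.card_image_le.trans (card_roots_le m _)

theorem exists_pairs' {L : Type*} [Field L] {P : Type*} (g : L → L → P) (F : Finset L) (k : ℕ) :
    ∃ C : Finset P, (∀ α β, (∃ m, 1 ≤ m ∧ m < k ∧ α ^ m = β ^ m ∧ α ^ m ∈ F) → g α β ∈ C) ∧
      C.card ≤ F.card * k ^ 3 := by
  classical
  refine ⟨F.biUnion fun b => (Finset.range k).biUnion fun m =>
    ((nthRoots m b).toFinset ×ˢ (nthRoots m b).toFinset).image fun x => g x.1 x.2, ?_, ?_⟩
  · rintro α β ⟨m, h1, h2, h3, h4⟩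
    rw [Finset.mem_biUnion]
    refine ⟨α ^ m, h4, ?_⟩
    rw [Finset.mem_biUnion]
    refine ⟨m, Finset.mem_range.2 h2, ?_⟩
    rw [Finset.mem_image]
    refine ⟨(α, β), ?_, rfl⟩
    rw [Finset.mem_product, Multiset.mem_toFinset, Multiset.mem_toFinset, mem_nthRoots h1,
      mem_nthRoots h1]
    exact ⟨rfl, h3.symm⟩
  · refine Finset.card_biUnion_le.trans ((Finset.sum_le_card_nsmul _ _ (k ^ 3) fun b _ => ?_).trans_eq
      (smul_eq_mul ..))
    refine Finset.card_biUnion_le.trans ((Finset.sum_le_card_nsmul _ _ (k ^ 2) fun m hm => ?_).trans_eq ?_)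
    · refine Finset.card_image_le.trans ?_
      rw [Finset.card_product, pow_two]
      have h1 := (card_roots_le m b).trans (Finset.mem_range.1 hm).le
      exact Nat.mul_le_mul h1 h1
    · rw [Finset.card_range, smul_eq_mul]; ring

end pairs

section fins

variable {K : Type*} [Field K] [Finite K]

/-- all elements of degree `e` -/
theorem exists_all {e : ℕ} (he : 1 ≤ e) : ∃ F : Finset (AlgebraicClosure K),
    (∀ b, b ^ (Nat.card K ^ e) = b → b ∈ F) ∧ (F.card : ℝ) ≤ (Nat.card K : ℝ) ^ e := by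
  classical
  have h1 : 1 < Nat.card K ^ e := Nat.one_lt_pow (by omega) Finite.one_lt_card
  refine ⟨(X ^ (Nat.card K ^ e) - X : (AlgebraicClosure K)[X]).roots.toFinset, fun b hb => ?_, ?_⟩
  · rw [Multiset.mem_toFinset, mem_roots (FiniteField.X_pow_card_sub_X_ne_zero _ h1), IsRoot,
      eval_sub, eval_pow, eval_X, hb, sub_self]
  · have h2 := (Multiset.toFinset_card_le (X ^ (Nat.card K ^ e) - X : (AlgebraicClosure K)[X]).roots).trans
      (card_roots' _)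
    rw [FiniteField.X_pow_card_sub_X_natDegree_eq _ h1] at h2
    exact_mod_cast h2

/-- the self-dual elements -/
theorem exists_dual {r : ℕ} (hr : 0 < r) (hrQ : r ∣ Nat.card K) (d : ℕ) :
    ∃ F : Finset (AlgebraicClosure K), (∀ b, b ^ (Nat.card K ^ d) = b →
      (∃ i < d, b ^ (r * Nat.card K ^ i) * b = 1) → b ∈ F) ∧
      (F.card : ℝ) ≤ 2 * d * Real.sqrt (Nat.card K) ^ d := by
  classical
  have h1 : ∀ i : ℕ, ∃ F : Finset (AlgebraicClosure K), i < d → (∀ b, b ^ (Nat.card K ^ d) = b →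
      b ^ (r * Nat.card K ^ i) * b = 1 → b ∈ F) ∧ (F.card : ℝ) ≤ 2 * Real.sqrt (Nat.card K) ^ d := by
    intro i
    by_cases hi : i < d
    · obtain ⟨F, hF⟩ := exists_fin (AlgebraicClosure K) Nat.card_pos hr hrQ hi
      exact ⟨F, fun _ => hF⟩
    · exact ⟨∅, fun h => absurd h hi⟩
  choose F hF using h1
  refine ⟨(Finset.range d).biUnion F, ?_, ?_⟩
  · rintro b hb ⟨i, hi, h2⟩
    rw [Finset.mem_biUnion]
    exact ⟨i, Finset.mem_range.2 hi, (hF i hi).1 b hb h2⟩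
  · have h2 : (((Finset.range d).biUnion F).card : ℝ) ≤ ∑ i ∈ Finset.range d, ((F i).card : ℝ) := by
      exact_mod_cast Finset.card_biUnion_le
    refine h2.trans ((Finset.sum_le_card_nsmul _ _ (2 * Real.sqrt (Nat.card K) ^ d) fun i hi =>
      (hF i (Finset.mem_range.1 hi)).2).trans_eq ?_)
    rw [Finset.card_range, nsmul_eq_mul]; ring

end fins

section real

theorem sqrt_pow' (x : ℝ) (hx : 0 ≤ x) (n : ℕ) : Real.sqrt (x ^ n) = Real.sqrt x ^ n := by
  rw [Real.sqrt_eq_iff_mul_self_eq (pow_nonneg hx n) (pow_nonneg (Real.sqrt_nonneg x) n), ← mul_pow,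
    Real.mul_self_sqrt hx]

theorem half_le {x : ℝ} (hx : 2 ≤ x) : x / 2 ≤ x - 1 := by linarith

theorem term_le {Q : ℝ} (hQ : 2 ≤ Q) {E n d e : ℕ} (hd : 1 ≤ d) (he : 1 ≤ e) (hE : E ≤ n) :
    Real.sqrt (Q ^ E) / ((Q ^ d - 1) * (Q ^ e - 1)) ≤
      4 * Real.sqrt Q ^ n / ((Real.sqrt Q ^ d * Real.sqrt Q ^ d) * (Real.sqrt Q ^ e * Real.sqrt Q ^ e)) := by
  have h0 : 0 ≤ Q := by linarith
  have hs : 1 ≤ Real.sqrt Q := by
    rw [Real.one_le_sqrt]; linarith
  have hQd : ∀ m, 1 ≤ m → 2 ≤ Q ^ m := fun m hm => by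
    calc (2 : ℝ) ≤ Q := hQ
      _ = Q ^ 1 := (pow_one Q).symm
      _ ≤ Q ^ m := pow_le_pow_right₀ (by linarith) hm
  have hsq : ∀ m, Real.sqrt Q ^ m * Real.sqrt Q ^ m = Q ^ m := fun m => by
    rw [← mul_pow, Real.mul_self_sqrt h0]
  rw [sqrt_pow' Q h0, hsq, hsq]
  have h1 := hQd d hd
  have h2 := hQd e he
  have h3 : Q ^ d * Q ^ e / 4 ≤ (Q ^ d - 1) * (Q ^ e - 1) := by nlinarith
  have h4 : Real.sqrt Q ^ E ≤ Real.sqrt Q ^ n := pow_le_pow_right₀ hs hE
  have h5 : 0 < Q ^ d * Q ^ e / 4 := by positivity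
  calc Real.sqrt Q ^ E / ((Q ^ d - 1) * (Q ^ e - 1)) ≤ Real.sqrt Q ^ n / (Q ^ d * Q ^ e / 4) :=
        div_le_div₀ (by positivity) h4 h5 h3
    _ = _ := by field_simp

end real

section main

variable {K : Type} [Field K] [Finite K]

theorem sum_b2_aux (σ : K →+* K) {k d e : ℕ} (hk : 1 ≤ k) (he : 1 ≤ e) (hed : e ≤ d) :
    (∑ᶠ p ∈ {p : K[X] × K[X] | Irr' p.1 ∧ Irr' p.2 ∧ p.1.natDegree = d ∧ p.2.natDegree = e ∧
        p.1 ≠ p.2 ∧ B2 k p.1 p.2},
      Real.sqrt ((Nat.card K : ℝ) ^ ed σ (p.1 * p.2)) /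
        (((Nat.card K : ℝ) ^ d - 1) * ((Nat.card K : ℝ) ^ e - 1))) ≤
      20 * k ^ 3 * d / Real.sqrt (Nat.card K) ^ d := by
  classical
  obtain ⟨r, hr, hrQ, φ, hφ1, hφ2⟩ := exists_twist σ
  have hd : 1 ≤ d := he.trans hed
  have hQ2 : (2 : ℝ) ≤ Nat.card K := by exact_mod_cast Finite.one_lt_card
  -- the three finite sets
  obtain ⟨F1, hF1, hF1c⟩ := exists_dual (K := K) hr hrQ e
  obtain ⟨F2, hF2, hF2c⟩ := exists_all (K := K) he
  obtain ⟨F3, hF3, hF3c⟩ := exists_dual (K := K) hr hrQ d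
  let g : AlgebraicClosure K → AlgebraicClosure K → K[X] × K[X] :=
    fun α β => (minpoly K α, minpoly K β)
  obtain ⟨C1, hC1, hC1c⟩ := exists_pairs g F1 k
  obtain ⟨C2, hC2, hC2c⟩ := exists_pairs g F2 k
  obtain ⟨C3, hC3, hC3c⟩ := exists_pairs' g F3 k
  set S : Set (K[X] × K[X]) := {p | Irr' p.1 ∧ Irr' p.2 ∧ p.1.natDegree = d ∧ p.2.natDegree = e ∧
        p.1 ≠ p.2 ∧ B2 k p.1 p.2} with hS
  set T : K[X] × K[X] → ℝ := fun p => Real.sqrt ((Nat.card K : ℝ) ^ ed σ (p.1 * p.2)) /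
        (((Nat.card K : ℝ) ^ d - 1) * ((Nat.card K : ℝ) ^ e - 1)) with hT
  -- the elements of the set
  have m2 : ∀ p ∈ S, p ∈ C2 := by
    rintro ⟨f, h⟩ ⟨hf, hh, hfd, hhe, -, m, hm1, hm2, α, β, hα, hβ, hαβ⟩
    have h1 := hC2 α β (hF2 β (by rw [← hhe]; exact pow_card_pow hh hβ)) ⟨m, hm1, hm2, hαβ⟩
    change (minpoly K α, minpoly K β) ∈ C2 at h1
    rwa [minpoly_eq hf hα, minpoly_eq hh hβ] at h1
  have m1 : ∀ p ∈ S, p.2 ∣ str σ p.2 → p ∈ C1 := by
    rintro ⟨f, h⟩ ⟨hf, hh, hfd, hhe, -, m, hm1, hm2, α, β, hα, hβ, hαβ⟩ hdv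
    have hβ' : aeval β (str σ h) = 0 := aeval_eq_zero_of_dvd_aeval_eq_zero hdv hβ
    obtain ⟨δ, hδ, hδr⟩ := exists_of_str hr hφ1 hφ2 (ne_zero_of_root hh hβ) hβ'
    obtain ⟨i, hi, hδi⟩ := exists_frob hh hβ hδ
    have h1 := hC1 α β (hF1 β (by rw [← hhe]; exact pow_card_pow hh hβ)
      ⟨i, hhe ▸ hi, by rw [mul_comm r, pow_mul, ← hδi]; exact hδr⟩) ⟨m, hm1, hm2, hαβ⟩
    change (minpoly K α, minpoly K β) ∈ C1 at h1
    rwa [minpoly_eq hf hα, minpoly_eq hh hβ] at h1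
  have m3 : ∀ p ∈ S, p.2 ∣ str σ p.1 → p ∈ C3 ∧ d = e := by
    rintro ⟨f, h⟩ ⟨hf, hh, hfd, hhe, -, m, hm1, hm2, α, β, hα, hβ, hαβ⟩ hdv
    have hβ' : aeval β (str σ f) = 0 := aeval_eq_zero_of_dvd_aeval_eq_zero hdv hβ
    obtain ⟨δ, hδ, hδr⟩ := exists_of_str hr hφ1 hφ2 (ne_zero_of_root hh hβ) hβ'
    obtain ⟨i, hi, hδi⟩ := exists_frob hf hα hδ
    have hαr : α ^ (r * Nat.card K ^ i) * β = 1 := by
      rw [mul_comm r, pow_mul, ← hδi]; exact hδr
    have hαQ : α ^ (Nat.card K ^ d) = α := by rw [← hfd]; exact pow_card_pow hf hα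
    have hβQ : β ^ (Nat.card K ^ e) = β := by rw [← hhe]; exact pow_card_pow hh hβ
    constructor
    · have h1 := hC3 α β ⟨m, hm1, hm2, hαβ, hF3 (α ^ m) (by rw [← pow_mul, mul_comm, pow_mul, hαQ])
        ⟨i, hfd ▸ hi, by
          have h2 : (α ^ (r * Nat.card K ^ i) * β) ^ m = 1 := by rw [hαr, one_pow]
          rw [mul_pow, ← hαβ, ← pow_mul, mul_comm _ m, pow_mul] at h2
          exact h2⟩⟩
      change (minpoly K α, minpoly K β) ∈ C3 at h1
      rwa [minpoly_eq hf hα, minpoly_eq hh hβ] at h1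
    · refine le_antisymm ?_ hed
      rw [← hfd]
      refine natDegree_le_of_pow hf hα he (pow_inj hφ1 (i := i) ?_)
      have hαr' : α ^ (r * Nat.card K ^ i) = β⁻¹ := eq_inv_of_mul_eq_one_left hαr
      rw [← pow_mul, mul_comm (Nat.card K ^ e), pow_mul, hαr', inv_pow, hβQ]
  have hfin : S.Finite := C2.finite_toSet.subset fun p hp => m2 p hp
  rw [finsum_mem_eq_finite_toFinset_sum T hfin]
  -- the three parts
  obtain ⟨x, hx⟩ : ∃ x, x = Real.sqrt (Nat.card K) ^ d := ⟨_, rfl⟩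
  obtain ⟨y, hy⟩ : ∃ y, y = Real.sqrt (Nat.card K) ^ e := ⟨_, rfl⟩
  have hs0 : 0 < Real.sqrt (Nat.card K) := Real.sqrt_pos.2 (by linarith)
  have hx0 : 0 < x := by rw [hx]; exact pow_pos hs0 _
  have hy0 : 0 < y := by rw [hy]; exact pow_pos hs0 _
  have hyy : (Nat.card K : ℝ) ^ e = y * y := by
    rw [hy, ← mul_pow, Real.mul_self_sqrt (by linarith)]
  have hk' : (1 : ℝ) ≤ k := by exact_mod_cast hk
  have he' : (e : ℝ) ≤ d := by exact_mod_cast hed
  have hd' : (1 : ℝ) ≤ d := by exact_mod_cast hd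
  have hb1 : ∑ p ∈ hfin.toFinset with p.2 ∣ str σ p.2, T p ≤ 8 * e * k ^ 2 / x := by
    have h1 : ∀ p ∈ hfin.toFinset.filter (fun p => p.2 ∣ str σ p.2), T p ≤ 4 * (x * y) / ((x * x) * (y * y)) := by
      intro p hp
      have hpS := hfin.mem_toFinset.1 (Finset.mem_filter.1 hp).1
      have h2 := term_le hQ2 hd he (ed_le_add (σ := σ) hpS.1 hpS.2.1)
      rwa [hpS.2.2.1, hpS.2.2.2.1, pow_add, ← hx, ← hy] at h2
    refine (Finset.sum_le_card_nsmul _ _ _ h1).trans ?_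
    have h3 : ((hfin.toFinset.filter (fun p => p.2 ∣ str σ p.2)).card : ℝ) ≤ 2 * e * y * k ^ 2 := by
      have h4 : (hfin.toFinset.filter (fun p => p.2 ∣ str σ p.2)).card ≤ C1.card :=
        Finset.card_le_card fun p hp => m1 p (hfin.mem_toFinset.1 (Finset.mem_filter.1 hp).1)
          (Finset.mem_filter.1 hp).2
      calc ((hfin.toFinset.filter (fun p => p.2 ∣ str σ p.2)).card : ℝ) ≤ ((F1.card * k ^ 2 : ℕ) : ℝ) := by
            exact_mod_cast h4.trans hC1c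
        _ = F1.card * k ^ 2 := by push_cast; ring
        _ ≤ 2 * e * y * k ^ 2 := by rw [hy]; exact mul_le_mul_of_nonneg_right hF1c (by positivity)
    rw [nsmul_eq_mul]
    refine (mul_le_mul_of_nonneg_right h3 (by positivity)).trans_eq ?_
    field_simp
    ring
  have hb3 : ∑ p ∈ (hfin.toFinset.filter (fun p => ¬ p.2 ∣ str σ p.2)) with p.2 ∣ str σ p.1, T p ≤
      8 * d * k ^ 3 / x := by
    by_cases hde : d = e
    · have h1 : ∀ p ∈ (hfin.toFinset.filter (fun p => ¬ p.2 ∣ str σ p.2)).filter (fun p => p.2 ∣ str σ p.1),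
          T p ≤ 4 * (x * x) / ((x * x) * (x * x)) := by
        intro p hp
        have hpS := hfin.mem_toFinset.1 (Finset.mem_filter.1 (Finset.mem_filter.1 hp).1).1
        have h2 := term_le hQ2 hd he (ed_le_add (σ := σ) hpS.1 hpS.2.1)
        have hyx : y = x := by rw [hy, hx, hde]
        rw [hpS.2.2.1, hpS.2.2.2.1, pow_add, ← hx, ← hy, hyx] at h2
        exact h2
      refine (Finset.sum_le_card_nsmul _ _ _ h1).trans ?_
      have h3 : (((hfin.toFinset.filter (fun p => ¬ p.2 ∣ str σ p.2)).filter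
          (fun p => p.2 ∣ str σ p.1)).card : ℝ) ≤ 2 * d * x * k ^ 3 := by
        have h4 : ((hfin.toFinset.filter (fun p => ¬ p.2 ∣ str σ p.2)).filter
            (fun p => p.2 ∣ str σ p.1)).card ≤ C3.card :=
          Finset.card_le_card fun p hp => (m3 p (hfin.mem_toFinset.1
            (Finset.mem_filter.1 (Finset.mem_filter.1 hp).1).1) (Finset.mem_filter.1 hp).2).1
        calc (((hfin.toFinset.filter (fun p => ¬ p.2 ∣ str σ p.2)).filter
            (fun p => p.2 ∣ str σ p.1)).card : ℝ) ≤ ((F3.card * k ^ 3 : ℕ) : ℝ) := by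
              exact_mod_cast h4.trans hC3c
          _ = F3.card * k ^ 3 := by push_cast; ring
          _ ≤ 2 * d * x * k ^ 3 := by rw [hx]; exact mul_le_mul_of_nonneg_right hF3c (by positivity)
      rw [nsmul_eq_mul]
      refine (mul_le_mul_of_nonneg_right h3 (by positivity)).trans_eq ?_
      field_simp
      ring
    · rw [Finset.filter_false_of_mem fun p hp hdv => hde (m3 p (hfin.mem_toFinset.1
        (Finset.mem_filter.1 hp).1) hdv).2, Finset.sum_empty]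
      positivity
  have hb2 : ∑ p ∈ (hfin.toFinset.filter (fun p => ¬ p.2 ∣ str σ p.2)) with ¬ p.2 ∣ str σ p.1, T p ≤
      4 * k ^ 2 / x := by
    have h1 : ∀ p ∈ (hfin.toFinset.filter (fun p => ¬ p.2 ∣ str σ p.2)).filter (fun p => ¬ p.2 ∣ str σ p.1),
        T p ≤ 4 * x / ((x * x) * (y * y)) := by
      intro p hp
      have hpS := hfin.mem_toFinset.1 (Finset.mem_filter.1 (Finset.mem_filter.1 hp).1).1
      have h2 := term_le hQ2 hd he (ed_le_left (σ := σ) hpS.1 hpS.2.1 (Finset.mem_filter.1 hp).2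
        (Finset.mem_filter.1 (Finset.mem_filter.1 hp).1).2)
      rwa [hpS.2.2.1, ← hx, ← hy] at h2
    refine (Finset.sum_le_card_nsmul _ _ _ h1).trans ?_
    have h3 : (((hfin.toFinset.filter (fun p => ¬ p.2 ∣ str σ p.2)).filter
        (fun p => ¬ p.2 ∣ str σ p.1)).card : ℝ) ≤ (y * y) * k ^ 2 := by
      have h4 : ((hfin.toFinset.filter (fun p => ¬ p.2 ∣ str σ p.2)).filter
          (fun p => ¬ p.2 ∣ str σ p.1)).card ≤ C2.card :=
        Finset.card_le_card fun p hp => m2 p (hfin.mem_toFinset.1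
          (Finset.mem_filter.1 (Finset.mem_filter.1 hp).1).1)
      calc (((hfin.toFinset.filter (fun p => ¬ p.2 ∣ str σ p.2)).filter
          (fun p => ¬ p.2 ∣ str σ p.1)).card : ℝ) ≤ ((F2.card * k ^ 2 : ℕ) : ℝ) := by
            exact_mod_cast h4.trans hC2c
        _ = F2.card * k ^ 2 := by push_cast; ring
        _ ≤ (y * y) * k ^ 2 := by rw [← hyy]; exact mul_le_mul_of_nonneg_right hF2c (by positivity)
    rw [nsmul_eq_mul]
    refine (mul_le_mul_of_nonneg_right h3 (by positivity)).trans_eq ?_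
    field_simp
  rw [← hx, ← Finset.sum_filter_add_sum_filter_not hfin.toFinset (fun p => p.2 ∣ str σ p.2),
    ← Finset.sum_filter_add_sum_filter_not (hfin.toFinset.filter (fun p => ¬ p.2 ∣ str σ p.2))
      (fun p => p.2 ∣ str σ p.1)]
  refine (add_le_add hb1 (add_le_add hb3 hb2)).trans ?_
  rw [← add_div, ← add_div]
  apply div_le_div_of_nonneg_right _ hx0.le
  have h1 : (k : ℝ) ^ 2 ≤ k ^ 3 := pow_le_pow_right₀ hk' (by norm_num)
  have h2 : (e : ℝ) * k ^ 2 ≤ d * k ^ 3 := mul_le_mul he' h1 (by positivity) (by positivity)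
  have h3 : (k : ℝ) ^ 2 ≤ d * k ^ 3 := by
    calc (k : ℝ) ^ 2 ≤ k ^ 3 := h1
      _ = 1 * k ^ 3 := (one_mul _).symm
      _ ≤ d * k ^ 3 := mul_le_mul_of_nonneg_right hd' (by positivity)
  nlinarith

theorem sum_b2 : ∃ A : ℝ, 0 < A ∧ ∀ (K : Type) [Field K] [Finite K] (σ : K →+* K), (∀ x, σ (σ x) = x) → ∀ k d e : ℕ,
    1 ≤ e → e ≤ d →
    (∑ᶠ p ∈ {p : K[X] × K[X] | Irr' p.1 ∧ Irr' p.2 ∧ p.1.natDegree = d ∧ p.2.natDegree = e ∧ p.1 ≠ p.2 ∧ B2 k p.1 p.2},
      Real.sqrt ((Nat.card K : ℝ) ^ ed σ (p.1 * p.2)) / (((Nat.card K : ℝ) ^ d - 1) * ((Nat.card K : ℝ) ^ e - 1))) ≤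
      A * k ^ 3 * d * (Nat.card K : ℝ) ^ (-(d : ℝ) / 2) := by
  refine ⟨20, by norm_num, fun K _ _ σ _ k d e he hed => ?_⟩
  have hrp : (Nat.card K : ℝ) ^ (-(d : ℝ) / 2) = (Real.sqrt (Nat.card K) ^ d)⁻¹ := by
    rw [neg_div, Real.rpow_neg (Nat.cast_nonneg _), Real.sqrt_eq_rpow, ← Real.rpow_natCast,
      ← Real.rpow_mul (Nat.cast_nonneg _)]
    congr 2
    ring
  rw [hrp, ← div_eq_mul_inv]
  rcases Nat.eq_zero_or_pos k with rfl | hk
  · have hempty : {p : K[X] × K[X] | Irr' p.1 ∧ Irr' p.2 ∧ p.1.natDegree = d ∧ p.2.natDegree = e ∧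
        p.1 ≠ p.2 ∧ B2 0 p.1 p.2} = ∅ := by
      ext p
      constructor
      swap
      · rintro ⟨⟩
      rintro ⟨-, -, -, -, -, m, h1, h2, -⟩
      omega
    rw [hempty, finsum_mem_empty]
    positivity
  · exact sum_b2_aux σ hk he hed

end main

end Cfsg.Agent.H795.Rg
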